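import Cfsg.Agent.OddHalf.D5.SixAut.Theta
import Cfsg.Agent.Lib.FastPerm
import Cfsg.Agent.Prune
set_option linter.all false
prune_inst 0x7f00000000000000000000000000000000000000000000000000000000000000000000000000000000000000000000000000000000000000000000000000000000000000000000000000000000000000003fffffffffffffffffffffffffffbeffbdffffffff
open scoped Cfsg.Agent.FastGrp

/-!
# Fast evaluation of the outer automorphism `θ` of `S_6`
-/

set_option autoImplicit false

namespace Cfsg.Agent.OddHalf.D5.SixAut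

open Equiv

namespace ThEv

/-- `part` on numbers -/
def pT (i a b c : ℕ) : ℕ := Nat.land (Nat.shiftRight (nat_lit 0xb1a2254c16295111632e0a8231d95306c6882e0a8231d4458d8a5462950b82ab1a2254c108c7511634458c231d95306c68862950b82a2e0a9116308c758a54b1a2254c108c758a544458cb82a95306c688b1a2254c166889035c284ac385595306c6880e154a12b66889035c668883855b1a2254c140d70a12b40d70a12b95306c6880e1559a22284ad9a2240d703855b1a2254c10e155035c284ad9a2295306c688b1a22521a6ac051163213b038559486ac6880e155ab014458c84ec6ac043855b1a2084ec9486911634458dab01213b2c6880e156521a213b11163948683855b1a21ab010e15484ec4458e521a6ac06c688b1a22521a629513941284ac14e59486ac6884e504a12b053958a54629513941b1a2014e594868a12b4e504a12b05396c68862952521a284ac14e5948698a54b1a213941053958a54284ae521a4e506c688b1a225053668893941213b0231d9414ec6884e504231d6688884ec668893941b1a2084ec08c7650534e504231d213b2c6889414d9a22213b19a2208c765053b1a21394108c7484ec9414d9a224e506c688b1a2250536ac05035c2e0a814e59414ec6882e0a9ab0105395035c6ac04b82ab1a2014e540d72505340d71ab0105396c6889414cb82a2e0a814e540d725053b1a21ab0105395035c9414cb82a6ac06c688)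
  (Nat.add (Nat.mul 648 i) (Nat.add (Nat.add (Nat.mul 108 a) (Nat.mul 18 b)) (Nat.mul 3 c)))) 7

/-- `code` on numbers -/
def cT (p q : ℕ) : ℕ := Nat.land (Nat.shiftRight (nat_lit 0xa55b4576db2db6db6db6db6db6d) (Nat.add (Nat.mul 18 p) (Nat.mul 3 q))) 7

theorem pT_eq : ∀ i a b c : Fin 6, pT i.1 a.1 b.1 c.1 = (part i a b c).1 := by
  (set_option synthInstance.maxSize 9000 in open scoped Cfsg.Agent.Lib.FastPerm in decide +kernel)

theorem cT_eq : ∀ p q : Fin 6, cT p.1 q.1 = (code p q).1 := by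
  (set_option synthInstance.maxSize 9000 in open scoped Cfsg.Agent.Lib.FastPerm in decide +kernel)

theorem thf_val (σ : Perm (Fin 6)) (f g : ℕ → ℕ) (hf : ∀ i : Fin 6, f i.1 = (σ i).1) (hg : ∀ i : Fin 6, g i.1 = (σ⁻¹ i).1)
    (i : Fin 6) : cT (f (pT i.1 (g 0) (g 1) (g 2))) (f (pT i.1 (g 0) (g 2) (g 1))) = (thf σ i).1 := by
  rw [show g 0 = _ from hg 0, show g 1 = _ from hg 1, show g 2 = _ from hg 2, pT_eq, pT_eq, hf, hf, cT_eq]
  rfl

/-- evaluation of `θ σ` -/
noncomputable scoped instance evθ (σ : Perm (Fin 6)) [x : Cfsg.Agent.Lib.FastPerm.Ev σ] : Cfsg.Agent.Lib.FastPerm.Ev (θ σ) :=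
  ⟨fun v => cT (x.f (pT v (x.g 0) (x.g 1) (x.g 2))) (x.f (pT v (x.g 0) (x.g 2) (x.g 1))),
    fun v => cT (x.g (pT v (x.f 0) (x.f 1) (x.f 2))) (x.g (pT v (x.f 0) (x.f 2) (x.f 1))), x.s,
    thf_val σ x.f x.g x.hf x.hg, thf_val σ⁻¹ x.g x.f x.hg x.hf, (sign_θ σ).trans x.hs⟩

end ThEv

end Cfsg.Agent.OddHalf.D5.SixAut
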